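import Mathlib

/-!
Rings of weak dimension at most one.
-/

universe u v

open TensorProduct

namespace Groth.Agent.WeakDimOne

theorem exists_fg_eq_lTensor_subtype {R : Type u} [CommRing R] {I : Type u} [AddCommGroup I]
    [Module R I] {M : Type v} [AddCommGroup M] [Module R M] (x : I ⊗[R] M) :
    ∃ N : Submodule R M, N.FG ∧ ∃ y : I ⊗[R] N, N.subtype.lTensor I y = x := by
  induction x using TensorProduct.induction_on with
  | zero => exact ⟨⊥, Submodule.fg_bot, 0, map_zero _⟩
  | tmul a m =>
      exact ⟨Submodule.span R {m}, Submodule.fg_span_singleton m,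
        a ⊗ₜ ⟨m, Submodule.mem_span_singleton_self m⟩, rfl⟩
  | add x₁ x₂ h₁ h₂ =>
      obtain ⟨N₁, hN₁, y₁, rfl⟩ := h₁
      obtain ⟨N₂, hN₂, y₂, rfl⟩ := h₂
      refine ⟨N₁ ⊔ N₂, hN₁.sup hN₂,
        (Submodule.inclusion le_sup_left).lTensor I y₁ +
          (Submodule.inclusion le_sup_right).lTensor I y₂, ?_⟩
      rw [map_add, ← LinearMap.lTensor_comp_apply, ← LinearMap.lTensor_comp_apply,
        Submodule.subtype_comp_inclusion, Submodule.subtype_comp_inclusion]

/-- A module all of whose finitely generated submodules are flat is flat. -/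
theorem flat_of_forall_fg_flat {R : Type u} [CommRing R] {M : Type v} [AddCommGroup M]
    [Module R M] (h : ∀ N : Submodule R M, N.FG → Module.Flat R N) : Module.Flat R M := by
  rw [Module.Flat.iff_lift_lsmul_comp_subtype_injective]
  intro I hI
  rw [injective_iff_map_eq_zero]
  intro x hx
  obtain ⟨N, hN, y, rfl⟩ := exists_fg_eq_lTensor_subtype x
  have := Module.Flat.iff_lift_lsmul_comp_subtype_injective.mp (h N hN) hI
  have key : ∀ z : I ⊗[R] N,
      TensorProduct.lift ((LinearMap.lsmul R M).comp I.subtype) (N.subtype.lTensor I z) =
        N.subtype (TensorProduct.lift ((LinearMap.lsmul R N).comp I.subtype) z) := by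
    intro z
    induction z using TensorProduct.induction_on with
    | zero => simp
    | tmul a m => simp
    | add a b ha hb => simp only [map_add, ha, hb]
  rw [key] at hx
  have hy : y = 0 := this (by rw [map_zero]; exact Subtype.ext hx)
  rw [hy, map_zero]

theorem flat_of_forall_fg_ideal_flat {R : Type u} [CommRing R]
    (h : ∀ I : Ideal R, I.FG → Module.Flat R I) (I : Ideal R) : Module.Flat R I := by
  refine flat_of_forall_fg_flat fun N hN => ?_
  have hfg : (N.map (Submodule.subtype I) : Ideal R).FG := hN.map _
  haveI := h _ hfg
  exact Module.Flat.of_linearEquiv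
    (N.equivMapOfInjective (Submodule.subtype I) (Submodule.subtype_injective I))

theorem isPrincipal_and_faithful_of_free {R : Type u} [CommRing R] [Nontrivial R] (J : Ideal R)
    [Module.Free R J] :
    Submodule.IsPrincipal J ∧ (J ≠ ⊥ → ∀ c : R, (∀ x ∈ J, c * x = 0) → c = 0) := by
  classical
  let b := Module.Free.chooseBasis R J
  have hsub : Subsingleton (Module.Free.ChooseBasisIndex R J) := by
    refine ⟨fun i j => ?_⟩
    by_contra hij
    have h0 : ((b j : J) : R) • b i = ((b i : J) : R) • b j := by
      apply Subtype.ext; simp [mul_comm]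
    have h1 := congrArg (fun z => b.repr z i) h0
    simp [hij] at h1
    exact b.ne_zero j h1
  constructor
  · rcases isEmpty_or_nonempty (Module.Free.ChooseBasisIndex R J) with hE | ⟨⟨i⟩⟩
    · haveI : Subsingleton J := b.repr.toEquiv.subsingleton
      have : J = ⊥ := by
        rw [Submodule.eq_bot_iff]
        exact fun x hx => congrArg Subtype.val (Subsingleton.elim (⟨x, hx⟩ : J) 0)
      rw [this]; infer_instance
    · haveI : Fintype (Module.Free.ChooseBasisIndex R J) := Fintype.ofSubsingleton i
      refine ⟨((b i : J) : R), ?_⟩
      apply le_antisymm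
      · intro x hx
        have h2 := b.sum_repr ⟨x, hx⟩
        rw [Fintype.sum_subsingleton _ i] at h2
        rw [Submodule.mem_span_singleton]
        exact ⟨_, congrArg Subtype.val h2⟩
      · rw [Submodule.span_le, Set.singleton_subset_iff]; exact (b i).2
  · intro hJ c hc
    obtain ⟨i⟩ : Nonempty (Module.Free.ChooseBasisIndex R J) := by
      by_contra hE
      rw [not_nonempty_iff] at hE
      apply hJ
      haveI : Subsingleton J := b.repr.toEquiv.subsingleton
      rw [Submodule.eq_bot_iff]
      exact fun x hx => congrArg Subtype.val (Subsingleton.elim (⟨x, hx⟩ : J) 0)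
    have h0 : c • b i = 0 := Subtype.ext (hc _ (b i).2)
    have h1 := congrArg (fun z => b.repr z i) h0
    simpa using h1

/-- A local ring all of whose finitely generated ideals are flat is a valuation domain. -/
theorem valuationRing_of_flat_ideals {R : Type u} [CommRing R] [IsLocalRing R]
    (h : ∀ I : Ideal R, I.FG → Module.Flat R I) :
    ∃ _ : IsDomain R, ValuationRing R := by
  have hfree : ∀ I : Ideal R, I.FG → Module.Free R I := fun I hI => by
    haveI := h I hI
    haveI : Module.Finite R I := Module.Finite.of_fg hI
    exact Module.free_of_flat_of_isLocalRing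
  haveI : IsDomain R := by
    haveI : NoZeroDivisors R := ⟨fun {a b} hab => by
      by_contra hne
      push Not at hne
      haveI := hfree (Ideal.span {a}) (Submodule.fg_span_singleton a)
      refine hne.2 ((isPrincipal_and_faithful_of_free (Ideal.span {a})).2
        (by simpa [Ideal.span_singleton_eq_bot] using hne.1) b ?_)
      intro x hx
      obtain ⟨r, rfl⟩ := Ideal.mem_span_singleton'.mp hx
      calc b * (r * a) = r * (a * b) := by ring
        _ = 0 := by rw [hab, mul_zero]⟩
    exact NoZeroDivisors.to_isDomain R
  refine ⟨inferInstance, ?_⟩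
  haveI : IsBezout R := ⟨fun I hI => by
    haveI := hfree I hI
    exact (isPrincipal_and_faithful_of_free I).1⟩
  infer_instance

/-- Finitely generated ideals of a localization are flat if those of the ring are. -/
theorem flat_ideal_localization {R : Type u} [CommRing R] (S : Submonoid R)
    (L : Type u) [CommRing L] [Algebra R L] [IsLocalization S L]
    (h : ∀ I : Ideal R, I.FG → Module.Flat R I) (J : Ideal L) (hJ : J.FG) : Module.Flat L J := by
  classical
  obtain ⟨s, rfl⟩ := hJ
  choose num hnum using fun x : L => IsLocalization.surj S x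
  let I : Ideal R := Ideal.span ((s.image fun x => (num x).1 : Finset R) : Set R)
  have hI : Ideal.span (s : Set L) = I.map (algebraMap R L) := by
    rw [Ideal.map_span]
    refine le_antisymm (Submodule.span_le.mpr fun x hx => ?_) (Submodule.span_le.mpr ?_)
    · have hu := IsLocalization.map_units L (num x).2
      rw [SetLike.mem_coe, ← Ideal.mul_unit_mem_iff_mem _ hu (x := x), hnum x]
      exact Submodule.subset_span ⟨_, Finset.mem_coe.mpr (Finset.mem_image_of_mem _ hx), rfl⟩
    · rintro _ ⟨_, hm, rfl⟩
      obtain ⟨x, hx, rfl⟩ := Finset.mem_image.mp hm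
      rw [SetLike.mem_coe, ← hnum x]
      exact Ideal.mul_mem_right _ _ (Submodule.subset_span hx)
  show Module.Flat L (Ideal.span (s : Set L) : Ideal L)
  rw [hI]
  haveI := h I ⟨_, rfl⟩
  exact Module.Flat.isBaseChange R L I _
    (IsLocalizedModule.isBaseChange S L (Algebra.idealMap L I))

/-- Over a valuation domain, submodules of flat modules are flat. -/
theorem flat_submodule_of_valuationRing_localizations {R : Type u} [CommRing R]
    (h : ∀ (p : Ideal R) [p.IsPrime],
      ∃ _ : IsDomain (Localization.AtPrime p), ValuationRing (Localization.AtPrime p))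
    {M : Type v} [AddCommGroup M] [Module R M] [Module.Flat R M] (N : Submodule R M) :
    Module.Flat R N := by
  apply Module.flat_of_localized_maximal
  intro P hP
  obtain ⟨hd, hv⟩ := h P
  haveI : IsDomain (Localization P.primeCompl) := hd
  haveI : ValuationRing (Localization P.primeCompl) := hv
  haveI : Module.Flat (Localization P.primeCompl) (LocalizedModule P.primeCompl M) :=
    Module.Flat.localizedModule _
  rw [← Module.flat_iff_of_isLocalization (Localization P.primeCompl) P.primeCompl,
    Module.Flat.flat_iff_torsion_eq_bot_of_isBezout, Submodule.eq_bot_iff]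
  intro x hx
  obtain ⟨a, ha⟩ := hx
  have hinj : Function.Injective (LocalizedModule.map P.primeCompl N.subtype) :=
    LocalizedModule.map_injective P.primeCompl _ N.subtype_injective
  apply hinj
  rw [map_zero]
  have htors := Module.Flat.torsion_eq_bot (R := Localization P.primeCompl)
    (M := LocalizedModule P.primeCompl M)
  rw [Submodule.eq_bot_iff] at htors
  refine htors _ ⟨a, ?_⟩
  rw [Submonoid.smul_def, ← map_smul]
  rw [← Submonoid.smul_def, ha, map_zero]

end Groth.Agent.WeakDimOne
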